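import Mathlib

/-!
A simple group as a transitive permutation group on the cosets of a proper subgroup.
-/

set_option autoImplicit false

namespace Cfsg.Agent.Lib.CosetPerm

universe u

theorem exists_perm {G : Type u} [Group G] [IsSimpleGroup G] (S : Subgroup G) {m : ℕ}
    (hS : S.index = m + 1) (hm : 0 < m) :
    ∃ (H : Subgroup (Equiv.Perm (Fin (m + 1)))) (e : G ≃* H), MulAction.IsPretransitive H (Fin (m + 1)) ∧
      MulAction.stabilizer H (0 : Fin (m + 1)) = S.map e.toMonoidHom := by
  classical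
  have hq : Nat.card (G ⧸ S) = m + 1 := by rw [← Subgroup.index_eq_card, hS]
  haveI : Finite (G ⧸ S) := Nat.finite_of_card_ne_zero (by omega)
  let e₀ : G ⧸ S ≃ Fin (m + 1) := Finite.equivFinOfCardEq hq
  let p : G ⧸ S := QuotientGroup.mk 1
  let e : G ⧸ S ≃ Fin (m + 1) := e₀.trans (Equiv.swap (e₀ p) 0)
  have hp : e p = 0 := by simp [e]
  let φ : G →* Equiv.Perm (Fin (m + 1)) :=
    e.permCongrHom.toMonoidHom.comp (MulAction.toPermHom G (G ⧸ S))
  have hφ : ∀ g q, φ g (e q) = e (g • q) := fun g q => by simp [φ, Equiv.permCongrHom]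
  have hinj : Function.Injective φ := by
    rw [← MonoidHom.ker_eq_bot_iff]
    refine (MonoidHom.normal_ker φ).eq_bot_or_eq_top.resolve_right fun ht => ?_
    have hall : S = ⊤ := by
      rw [eq_top_iff]
      intro g _
      have hg' : φ g = 1 := by rw [← MonoidHom.mem_ker, ht]; trivial
      have := hφ g p
      rw [hg', Equiv.Perm.one_apply] at this
      simpa [p, QuotientGroup.eq] using (e.injective this).symm
    rw [hall, Subgroup.index_top] at hS
    omega
  refine ⟨φ.range, MonoidHom.ofInjective hinj, ⟨fun a b => ?_⟩, ?_⟩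
  · obtain ⟨x, rfl⟩ := e.surjective a
    obtain ⟨y, rfl⟩ := e.surjective b
    obtain ⟨g, rfl⟩ := MulAction.exists_smul_eq G x y
    exact ⟨MonoidHom.ofInjective hinj g, hφ g x⟩
  · ext h
    obtain ⟨g, rfl⟩ := (MonoidHom.ofInjective hinj).surjective h
    rw [MulAction.mem_stabilizer_iff]
    constructor
    · intro hg
      refine ⟨g, ?_, rfl⟩
      have : e (g • p) = e p := by rw [← hφ, hp]; exact hg
      have h1 : ((g * 1 : G) : G ⧸ S) = ((1 : G) : G ⧸ S) := e.injective this
      simpa [QuotientGroup.eq] using h1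
    · rintro ⟨g', hg', heq⟩
      obtain rfl := (MonoidHom.ofInjective hinj).injective heq
      show φ g' 0 = 0
      rw [← hp, hφ]
      congr 1
      show ((g' * 1 : G) : G ⧸ S) = ((1 : G) : G ⧸ S)
      rw [QuotientGroup.eq]
      simpa using hg'

end Cfsg.Agent.Lib.CosetPerm
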